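import Cfsg.Agent.Lib.HalfTransP.Main

/-!
The dihedral and semidihedral half-transitive groups.
-/

set_option autoImplicit false
set_option linter.unusedSectionVars false
set_option linter.unusedSimpArgs false

namespace CfsgLib.HalfTransP

variable {q : ℕ} [hq : Fact q.Prime] {V : Type*} [AddCommGroup V] [Module (ZMod q) V] [Finite V]
  [Nontrivial V] {G : Type*} [Group G] [Finite G] (ρ : G →* (V ≃ₗ[ZMod q] V))

/-- A group with a cyclic subgroup of index two, all outer involutions paired by conjugation. -/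
theorem frame_case (hρ : Function.Injective ρ) (hq2 : q ≠ 2)
    (hirr : ∀ W : Submodule (ZMod q) V, (∀ g : G, ∀ w ∈ W, ρ g w ∈ W) → W = ⊥ ∨ W = ⊤)
    (hne : ∀ v : V, v ≠ 0 → St ρ v ≠ ⊥)
    {r y : G} {a : ℕ} (hr : orderOf r = 2 ^ (a + 2)) (hG : Nat.card G = 2 * 2 ^ (a + 2))
    (hy : y ∉ Subgroup.zpowers r) (hy2 : y * y = 1) {e : ℤ} (hconj : y * r * y⁻¹ = r ^ e)
    (he : (2 ^ (a + 2) : ℤ) ∣ 2 ^ a * (1 - e) - 2 ^ (a + 1)) {K : ℕ}
    (hK : Nat.card {t : G // t ∉ Subgroup.zpowers r ∧ t * t = 1} = 2 ^ K) :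
    Nat.card V = q ^ 2 ∧ q + 1 = 2 ^ K := by
  classical
  haveI := Fintype.ofFinite G
  haveI := Fintype.ofFinite V
  set C := Subgroup.zpowers r with hC
  have hCcard : Nat.card C = 2 ^ (a + 2) := by rw [hC, Nat.card_zpowers, hr]
  have hidx : C.index = 2 := by
    have h := C.card_mul_index
    rw [hCcard, hG, mul_comm 2] at h
    exact Nat.eq_of_mul_eq_mul_left (by positivity) h
  haveI : C.Normal := Subgroup.normal_of_index_eq_two hidx
  set z := r ^ (2 ^ (a + 1)) with hz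
  have hzC : z ∈ C := pow_mem (Subgroup.mem_zpowers r) _
  have hzo : orderOf z = 2 := by
    rw [hz, orderOf_pow_of_dvd (by positivity) (hr ▸ pow_dvd_pow 2 (by omega)), hr,
      Nat.pow_div (by omega) two_pos, show a + 2 - (a + 1) = 1 by omega, pow_one]
  have hz1 : z ≠ 1 := fun h => by rw [h, orderOf_one] at hzo; omega
  -- the only involution of the cyclic subgroup
  have huniq : ∀ w ∈ C, w * w = 1 → w ≠ 1 → w = z := by
    intro w hw hw2 hw1
    obtain ⟨i, hi, rfl⟩ : ∃ i, i < 2 ^ (a + 2) ∧ r ^ i = w := by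
      rw [hC, ← mem_powers_iff_mem_zpowers, mem_powers_iff_mem_range_orderOf, hr] at hw
      simpa [Finset.mem_image] using hw
    rw [← pow_add] at hw2
    obtain ⟨c, hc⟩ := hr ▸ orderOf_dvd_iff_pow_eq_one.mpr hw2
    rw [hz]
    congr 1
    have e2 : 2 ^ (a + 2) = 2 * 2 ^ (a + 1) := by ring
    rcases c with _ | _ | c
    · exfalso; exact hw1 (by rw [show i = 0 by omega, pow_zero])
    · omega
    · exfalso
      have : 2 ^ (a + 2) * 2 ≤ 2 ^ (a + 2) * (c + 1 + 1) := Nat.mul_le_mul_left _ (by omega)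
      omega
  have hzcen : ∀ g, g * z = z * g := by
    intro g
    have h := huniq (g * z * g⁻¹) ((inferInstance : C.Normal).conj_mem z hzC g) (by
      rw [conj_mul, ← pow_two z, ← hzo, pow_orderOf_eq_one, mul_one, mul_inv_cancel])
      (fun h => hz1 (conj_eq_one_iff.mp h))
    exact mul_inv_eq_iff_eq_mul.mp h
  have hzfix : ∀ v : V, ρ z v = v → v = 0 := fun v hv => by
    by_contra h
    exact hz1 (eq_one_of_central ρ hρ hirr hzcen h hv)
  have hCreg : ∀ v : V, v ≠ 0 → ∀ g ∈ C, ρ g v = v → g = 1 := by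
    intro v hv g hg hgv
    by_contra h1
    obtain ⟨h, hh, hho⟩ : ∃ h ∈ Subgroup.zpowers g, orderOf h = 2 := by
      have h2 : 2 ∣ Nat.card (Subgroup.zpowers g) := by
        rw [Nat.card_zpowers]
        obtain ⟨j, -, hj⟩ := (Nat.dvd_prime_pow Nat.prime_two).mp
          (hCcard ▸ Subgroup.orderOf_dvd_natCard C hg)
        rcases j with _ | j
        · exact absurd (orderOf_eq_one_iff.mp (by simpa using hj)) h1
        · exact hj ▸ dvd_pow_self 2 (Nat.succ_ne_zero j)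
      obtain ⟨h, hho⟩ := exists_prime_orderOf_dvd_card' (G := Subgroup.zpowers g) 2 h2
      exact ⟨h, h.2, by rw [Subgroup.orderOf_coe, hho]⟩
    have hst : h ∈ St ρ v := Subgroup.zpowers_le.mpr (show g ∈ St ρ v from hgv) hh
    have hhz : h = z := huniq h (Subgroup.zpowers_le.mpr hg hh)
      (by rw [← pow_two, ← hho, pow_orderOf_eq_one])
      (fun e => by rw [e, orderOf_one] at hho; omega)
    exact hv (hzfix v (hhz ▸ hst))
  -- stabilisers
  let T := {t : G // t ∉ C ∧ t * t = 1}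
  have hTex : ∀ v : V, v ≠ 0 → ∃ t : T, ρ t.1 v = v := by
    intro v hv
    obtain ⟨g, hg, hg1⟩ := (St ρ v).ne_bot_iff_exists_ne_one.mp (hne v hv) |> fun ⟨g, hg⟩ =>
      (⟨g.1, g.2, fun h => hg (Subtype.ext h)⟩ : ∃ g, g ∈ St ρ v ∧ g ≠ 1)
    refine ⟨⟨g, fun h => hg1 (hCreg v hv g h hg), ?_⟩, hg⟩
    exact hCreg v hv _ ((Subgroup.mul_mem_iff_of_index_two hidx).mpr Iff.rfl) (mul_mem hg hg)
  have hTuniq : ∀ v : V, v ≠ 0 → ∀ t t' : T, ρ t.1 v = v → ρ t'.1 v = v → t = t' := by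
    intro v hv t t' h h'
    have hm : t.1 * t'.1 ∈ C := (Subgroup.mul_mem_iff_of_index_two hidx).mpr
      ⟨fun e => absurd e t.2.1, fun e => absurd e t'.2.1⟩
    have h1 := hCreg v hv _ hm (by rw [apply_mul, h', h])
    exact Subtype.ext ((mul_eq_one_iff_eq_inv.mp h1).trans
      (inv_eq_of_mul_eq_one_right t'.2.2))
  -- conjugate pairs
  have htz : ∀ t : T, ∃ g : G, g * t.1 * g⁻¹ = z * t.1 := by
    intro t
    obtain ⟨i, hi⟩ : ∃ i : ℤ, t.1 = r ^ i * y := by
      have hm : t.1 * y ∈ C := (Subgroup.mul_mem_iff_of_index_two hidx).mpr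
        ⟨fun e => absurd e t.2.1, fun e => absurd e hy⟩
      obtain ⟨i, hi⟩ := hm
      exact ⟨i, by
        have : r ^ i = t.1 * y := hi
        rw [this, mul_assoc, hy2, mul_one]⟩
    refine ⟨r ^ (2 ^ a : ℤ), ?_⟩
    have hk : y * (r ^ (2 ^ a : ℤ))⁻¹ * y⁻¹ = r ^ (-(e * 2 ^ a)) := by
      rw [← zpow_neg, ← conj_zpow, hconj, ← zpow_mul, mul_neg]
    have h2 : y * (r ^ (2 ^ a : ℤ))⁻¹ = r ^ (-(e * 2 ^ a)) * y := mul_inv_eq_iff_eq_mul.mp hk
    rw [hi, hz, ← zpow_natCast]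
    calc r ^ (2 ^ a : ℤ) * (r ^ i * y) * (r ^ (2 ^ a : ℤ))⁻¹
        = r ^ (2 ^ a : ℤ) * r ^ i * (y * (r ^ (2 ^ a : ℤ))⁻¹) := by group
      _ = r ^ (2 ^ a : ℤ) * r ^ i * r ^ (-(e * 2 ^ a)) * y := by rw [h2]; group
      _ = r ^ (((2 ^ (a + 1) : ℕ) : ℤ)) * r ^ i * y := by
        rw [← zpow_add, ← zpow_add, ← zpow_add]
        congr 1
        rw [zpow_eq_zpow_iff_modEq, hr, Int.modEq_iff_dvd]
        push_cast
        rw [show (2 : ℤ) ^ (a + 1) + i - (2 ^ a + i + -(e * 2 ^ a))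
          = -(2 ^ a * (1 - e) - 2 ^ (a + 1)) by ring]
        exact dvd_neg.mpr he
      _ = r ^ (((2 ^ (a + 1) : ℕ) : ℤ)) * (r ^ i * y) := by group
  have hzneg : ∀ v : V, ρ z v = -v := fun v => by
    have h := hzfix (v + ρ z v) (by
      rw [map_add, ← apply_mul, ← pow_two, ← hzo, pow_orderOf_eq_one, map_one]
      exact add_comm _ _)
    exact eq_neg_of_add_eq_zero_right h
  let F : T → Submodule (ZMod q) V := fun t => Fx ρ t.1
  have hF : ∀ t v, v ∈ F t ↔ ρ t.1 v = v := fun t v => Iff.rfl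
  have h2u : (2 : ZMod q) ≠ 0 := by
    have : ((2 : ℕ) : ZMod q) ≠ 0 := by
      rw [Ne, ZMod.natCast_eq_zero_iff]
      exact fun h => hq2 ((Nat.prime_dvd_prime_iff_eq hq.out Nat.prime_two).mp h)
    exact_mod_cast this
  have hsq : ∀ t : T, Nat.card (F t) * Nat.card (F t) = Nat.card V := by
    intro t
    obtain ⟨g, hg⟩ := htz t
    have htt : ∀ v, ρ t.1 (ρ t.1 v) = v := fun v => by
      rw [← apply_mul, t.2.2, map_one]; rfl
    -- the opposite eigenspace
    have hcard : Nat.card (Fx ρ (z * t.1)) = Nat.card (F t) := by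
      refine (Nat.card_congr ?_).symm
      refine (ρ g).toEquiv.subtypeEquiv fun v => ?_
      show ρ t.1 v = v ↔ ρ (z * t.1) (ρ g v) = ρ g v
      rw [← hg, ← apply_mul, inv_mul_cancel_right, apply_mul]
      exact (ρ g).injective.eq_iff.symm
    have hmin : ∀ b : V, ρ (z * t.1) b = b → ρ t.1 b = -b := fun b hb => by
      rw [apply_mul, hzneg] at hb
      exact (neg_eq_iff_eq_neg.mp hb)
    conv_lhs => arg 2; rw [← hcard]
    rw [← Nat.card_prod]
    refine Nat.card_eq_of_bijective (fun x : F t × Fx ρ (z * t.1) => (x.1 : V) + x.2) ⟨?_, ?_⟩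
    · rintro ⟨⟨a₁, ha⟩, ⟨b₁, hb⟩⟩ ⟨⟨a₂, ha'⟩, ⟨b₂, hb'⟩⟩ h
      simp only at h
      have h' := congrArg (ρ t.1) h
      rw [map_add, map_add, (hF t _).mp ha, (hF t _).mp ha', hmin _ hb, hmin _ hb'] at h'
      have hab : (2 : ZMod q) • (a₁ - a₂) = 0 := by
        rw [two_smul]
        linear_combination (norm := module) h + h'
      have haa : a₁ = a₂ := sub_eq_zero.mp ((smul_eq_zero.mp hab).resolve_left h2u)
      subst haa
      obtain rfl := add_left_cancel h
      rfl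
    · intro v
      refine ⟨(⟨(2 : ZMod q)⁻¹ • (v + ρ t.1 v), ?_⟩, ⟨(2 : ZMod q)⁻¹ • (v - ρ t.1 v), ?_⟩), ?_⟩
      · rw [hF, map_smul, map_add, htt, add_comm]
      · rw [mem_Fx, apply_mul, hzneg, map_smul, map_sub, htt, ← smul_neg, neg_sub]
      · show (2 : ZMod q)⁻¹ • (v + ρ t.1 v) + (2 : ZMod q)⁻¹ • (v - ρ t.1 v) = v
        rw [← smul_add, show v + ρ t.1 v + (v - ρ t.1 v) = (2 : ZMod q) • v by rw [two_smul]; abel,
          inv_smul_smul₀ h2u]
  -- counting
  obtain ⟨t0⟩ : Nonempty T := ⟨⟨y, hy, hy2⟩⟩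
  set f := Nat.card (F t0) with hf
  have hfs : ∀ t, Nat.card (F t) = f := fun t =>
    Nat.mul_self_inj.mp ((hsq t).trans (hsq t0).symm)
  have hcount : Nat.card V - 1 = 2 ^ K * (f - 1) := by
    let Φ : (Σ t : T, {v : F t // v ≠ 0}) → {v : V // v ≠ 0} :=
      fun x => ⟨((x.2.1 : F x.1) : V), fun h => x.2.2 (Subtype.ext h)⟩
    have hΦ : Function.Bijective Φ := by
      refine ⟨?_, fun v => ?_⟩
      · rintro ⟨t, ⟨v, hv⟩, h0⟩ ⟨t', ⟨v', hv'⟩, h0'⟩ h
        obtain rfl : v = v' := congrArg Subtype.val h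
        obtain rfl : t = t' := hTuniq v (fun e => h0 (Subtype.ext e)) t t' hv hv'
        rfl
      · obtain ⟨t, ht⟩ := hTex v.1 v.2
        exact ⟨⟨t, ⟨v.1, ht⟩, fun h => v.2 (congrArg Subtype.val h)⟩, rfl⟩
    have h1 := Nat.card_eq_of_bijective Φ hΦ
    have hc : ∀ t : T, Nat.card {v : F t // v ≠ 0} = f - 1 := fun t => by
      rw [← hfs t]
      simp only [Nat.card_eq_fintype_card, Fintype.card_subtype_compl, Fintype.card_subtype_eq]
    rw [Nat.card_sigma, Finset.sum_congr rfl fun t _ => hc t, Finset.sum_const, Finset.card_univ,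
      ← Nat.card_eq_fintype_card, smul_eq_mul] at h1
    rw [show Nat.card V - 1 = Nat.card {v : V // v ≠ 0} by
      simp only [Nat.card_eq_fintype_card, Fintype.card_subtype_compl, Fintype.card_subtype_eq],
      ← h1, ← hK]
  have hV1 : 1 < Nat.card V := Finite.one_lt_card
  have hf1 : 1 < f := by
    have := hsq t0
    rw [← hf] at this
    by_contra h
    have : f * f ≤ 1 * 1 := Nat.mul_le_mul (by omega) (by omega)
    omega
  have hfK : f + 1 = 2 ^ K := by
    rw [← hsq t0, ← hf] at hcount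
    obtain ⟨g, hg⟩ := Nat.exists_eq_add_of_le hf1.le
    rw [hg] at hcount hf1 ⊢
    have : (g + 2) * g = 2 ^ K * g := by
      rw [show (1 + g) * (1 + g) = (g + 2) * g + 1 by ring, Nat.add_sub_cancel, Nat.add_sub_cancel_left]
        at hcount
      exact hcount
    have := Nat.eq_of_mul_eq_mul_right (by omega) this
    omega
  obtain ⟨d, hd⟩ : ∃ d, f = q ^ d :=
    ⟨_, by rw [hf, Module.natCard_eq_pow_finrank (K := ZMod q), Nat.card_zmod]⟩
  have hd1 : d = 1 := pow_add_one_two_pow (Nat.pos_of_ne_zero fun h => by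
    rw [h, pow_zero] at hd; omega) hq2 (hd ▸ hfK)
  rw [hd1, pow_one] at hd
  exact ⟨by rw [← hsq t0, ← hf, hd, pow_two], hd ▸ hfK⟩

/-- Dihedral groups of order at least eight. -/
theorem dihedral_case (hρ : Function.Injective ρ) (hq2 : q ≠ 2)
    (hirr : ∀ W : Submodule (ZMod q) V, (∀ g : G, ∀ w ∈ W, ρ g w ∈ W) → W = ⊥ ∨ W = ⊤)
    (hne : ∀ v : V, v ≠ 0 → St ρ v ≠ ⊥) {a : ℕ} (e : G ≃* DihedralGroup (2 ^ (a + 2))) :
    Nat.card V = q ^ 2 ∧ q + 1 = 2 ^ (a + 2) := by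
  haveI : NeZero (2 ^ (a + 2)) := ⟨by positivity⟩
  set n := 2 ^ (a + 2) with hn
  set r := e.symm (DihedralGroup.r 1) with hr'
  set y := e.symm (DihedralGroup.sr 0) with hy'
  have hr : orderOf r = n := by rw [hr', MulEquiv.orderOf_eq, DihedralGroup.orderOf_r_one]
  have hG : Nat.card G = 2 * n := by rw [Nat.card_congr e.toEquiv, DihedralGroup.nat_card]
  have hsr : ∀ i : ZMod n, e.symm (DihedralGroup.sr i) ∉ Subgroup.zpowers r := by
    rintro i ⟨k, hk⟩
    have h : e.symm (DihedralGroup.r 1 ^ k) = e.symm (DihedralGroup.sr i) := by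
      rw [map_zpow]; exact hk
    have := e.symm.injective h
    rw [DihedralGroup.r_one_zpow] at this
    simp at this
  have hT : Nat.card {t : G // t ∉ Subgroup.zpowers r ∧ t * t = 1} = 2 ^ (a + 2) := by
    rw [← hn]
    refine ((Nat.card_eq_of_bijective (fun i : ZMod n =>
      (⟨e.symm (DihedralGroup.sr i), hsr i, by rw [← map_mul, DihedralGroup.sr_mul_self, map_one]⟩ :
        {t : G // t ∉ Subgroup.zpowers r ∧ t * t = 1})) ⟨?_, ?_⟩).symm.trans ?_)
    · intro i j h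
      exact DihedralGroup.sr.inj (e.symm.injective (congrArg Subtype.val h))
    · rintro ⟨t, ht, ht2⟩
      obtain ⟨u, rfl⟩ := e.symm.surjective t
      rcases u with i | i
      · exfalso
        apply ht
        refine ⟨(i.val : ℤ), ?_⟩
        show r ^ (i.val : ℤ) = _
        rw [zpow_natCast, hr', ← map_pow, DihedralGroup.r_one_pow, ZMod.natCast_zmod_val]
      · exact ⟨i, rfl⟩
    · exact Nat.card_zmod n
  refine frame_case ρ hρ hq2 hirr hne (r := r) (y := y) (a := a) hr hG (hsr 0)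
    (by rw [hy', ← map_mul, DihedralGroup.sr_mul_self, map_one]) (e := -1) ?_ ?_ hT
  · rw [zpow_neg_one, hr', hy', ← map_inv, ← map_mul, ← map_mul, ← map_inv]
    congr 1
    simp [DihedralGroup.sr_mul_r, DihedralGroup.sr_mul_sr]
  · rw [show (2 : ℤ) ^ a * (1 - -1) - 2 ^ (a + 1) = 0 by rw [pow_succ]; ring]
    exact dvd_zero _

/-- Semidihedral groups. -/
theorem semidihedral_case (hρ : Function.Injective ρ) (hq2 : q ≠ 2)
    (hirr : ∀ W : Submodule (ZMod q) V, (∀ g : G, ∀ w ∈ W, ρ g w ∈ W) → W = ⊥ ∨ W = ⊤)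
    (hne : ∀ v : V, v ≠ 0 → St ρ v ≠ ⊥) {a : ℕ} {x y : G} (hG : Nat.card G = 2 ^ (a + 3 + 1))
    (hx : orderOf x = 2 ^ (a + 3)) (hy : orderOf y = 2)
    (hxy : y * x * y⁻¹ = x ^ (2 ^ (a + 2) - 1)) :
    Nat.card V = q ^ 2 ∧ q + 1 = 2 ^ (a + 2) := by
  classical
  set C := Subgroup.zpowers x
  have hC : Nat.card C = 2 ^ (a + 3) := by rw [Nat.card_zpowers, hx]
  have hidx : C.index = 2 := by
    have h := C.card_mul_index
    rw [hC, hG, pow_succ 2 (a + 3)] at h
    exact Nat.eq_of_mul_eq_mul_left (by positivity) h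
  have hy2 : y * y = 1 := by rw [← pow_two, ← hy, pow_orderOf_eq_one]
  have hpos : 1 ≤ 2 ^ (a + 2) := Nat.one_le_two_pow
  have hyC : y ∉ C := by
    rintro ⟨k, rfl⟩
    rw [((Commute.refl x).zpow_left k).eq, mul_inv_cancel_right] at hxy
    have h1 : x ^ 1 = x ^ (2 ^ (a + 2) - 1) := by rw [pow_one]; exact hxy
    rw [pow_eq_pow_iff_modEq, hx] at h1
    have h4 : 4 ≤ 2 ^ (a + 2) := by rw [pow_add]; have := Nat.one_le_two_pow (n := a); omega
    rw [Nat.modEq_iff_dvd' (by omega)] at h1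
    have := Nat.le_of_dvd (by omega) h1
    rw [pow_succ] at this
    omega
  have hsq : ∀ i : ℕ, (x ^ i * y) * (x ^ i * y) = x ^ (i * 2 ^ (a + 2)) := by
    intro i
    have h : y * x ^ i = x ^ ((2 ^ (a + 2) - 1) * i) * y := by
      rw [pow_mul, ← hxy, conj_pow, inv_mul_cancel_right]
    calc x ^ i * y * (x ^ i * y) = x ^ i * (y * x ^ i) * y := by group
      _ = x ^ i * x ^ ((2 ^ (a + 2) - 1) * i) * (y * y) := by rw [h]; group
      _ = x ^ (i * 2 ^ (a + 2)) := by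
        rw [hy2, mul_one, ← pow_add]
        congr 1
        obtain ⟨m, hm⟩ := Nat.exists_eq_add_of_le hpos
        rw [hm, Nat.add_sub_cancel_left]; ring
  have hout : ∀ i : ℕ, x ^ i * y ∉ C := fun i h => hyC
    (by simpa using mul_mem (inv_mem (pow_mem (Subgroup.mem_zpowers x) i)) h)
  have hT : Nat.card {t : G // t ∉ C ∧ t * t = 1} = 2 ^ (a + 2) := by
    refine ((Nat.card_eq_of_bijective (fun i : Fin (2 ^ (a + 2)) =>
      (⟨x ^ (2 * (i : ℕ)) * y, hout _, by
        rw [hsq, show 2 * (i : ℕ) * 2 ^ (a + 2) = 2 ^ (a + 3) * i by ring, pow_mul, ← hx,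
          pow_orderOf_eq_one, one_pow]⟩ :
        {t : G // t ∉ C ∧ t * t = 1})) ⟨?_, ?_⟩).symm.trans (Nat.card_fin _))
    · intro i j h
      have h1 := mul_right_cancel (congrArg Subtype.val h)
      have hlt : ∀ k : Fin (2 ^ (a + 2)), 2 * (k : ℕ) ∈ Set.Iio (orderOf x) := fun k => by
        have := k.isLt
        rw [Set.mem_Iio, hx, show (2 : ℕ) ^ (a + 3) = 2 * 2 ^ (a + 2) by ring]; omega
      exact Fin.ext (by have := pow_injOn_Iio_orderOf (hlt i) (hlt j) h1; omega)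
    · rintro ⟨t, ht, ht2⟩
      have hm : t * y ∈ C := (Subgroup.mul_mem_iff_of_index_two hidx).mpr
        ⟨fun e => absurd e ht, fun e => absurd e hyC⟩
      rw [← mem_powers_iff_mem_zpowers, mem_powers_iff_mem_range_orderOf, hx,
        Finset.mem_image] at hm
      obtain ⟨i, hi, hit⟩ := hm
      have hte : t = x ^ i * y := by rw [hit, mul_assoc, hy2, mul_one]
      rw [hte, hsq, ← orderOf_dvd_iff_pow_eq_one, hx, show a + 3 = (a + 2) + 1 by omega, pow_succ,
        mul_comm i] at ht2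
      obtain ⟨k, rfl⟩ := Nat.dvd_of_mul_dvd_mul_left (by positivity) ht2
      have hk : k < 2 ^ (a + 2) := by
        have := Finset.mem_range.mp hi
        rw [pow_succ] at this
        omega
      exact ⟨⟨k, hk⟩, Subtype.ext hte.symm⟩
  refine frame_case ρ hρ hq2 hirr hne (r := x) (y := y) (a := a + 1) hx
    (by rw [hG]; ring) hyC hy2 (e := ((2 ^ (a + 2) - 1 : ℕ) : ℤ)) (by rw [zpow_natCast]; exact hxy)
    ?_ hT
  rw [Nat.cast_sub hpos]
  push_cast
  refine ⟨-2 ^ a, ?_⟩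
  ring

end CfsgLib.HalfTransP
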