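import Mathlib
import Cfsg.Prelude.Def_CaseTheorems
import Cfsg.Agent.S3370
import Cfsg.Agent.S3380
import Cfsg.Agent.Lib.TransLinear.Regular

/-!
Passman: a p-group of linear maps all of whose orbits on nonzero vectors have the same size.
-/

set_option autoImplicit false
set_option linter.unusedSectionVars false
set_option linter.unusedSimpArgs false

namespace CfsgLib.HalfTransP

variable {q : ℕ} [hq : Fact q.Prime] {V : Type*} [AddCommGroup V] [Module (ZMod q) V] [Finite V]
  [Nontrivial V] {G : Type*} [Group G] [Finite G] (ρ : G →* (V ≃ₗ[ZMod q] V))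

/-- The stabiliser of a vector. -/
def St (v : V) : Subgroup G where
  carrier := {g | ρ g v = v}
  mul_mem' {a b} ha hb := by
    simp only [Set.mem_setOf_eq] at *
    rw [map_mul, LinearEquiv.mul_apply, hb, ha]
  one_mem' := by simp
  inv_mem' {a} ha := by
    simp only [Set.mem_setOf_eq] at *
    rw [map_inv]
    exact (LinearEquiv.symm_apply_eq _).mpr ha.symm

theorem mem_St {g : G} {v : V} : g ∈ St ρ v ↔ ρ g v = v := Iff.rfl

/-- The fixed space of an element. -/
def Fx (g : G) : Submodule (ZMod q) V where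
  carrier := {v | ρ g v = v}
  add_mem' {a b} ha hb := by simp only [Set.mem_setOf_eq, map_add] at *; rw [ha, hb]
  zero_mem' := by simp
  smul_mem' c v hv := by simp only [Set.mem_setOf_eq, map_smul] at *; rw [hv]

theorem mem_Fx {g : G} {v : V} : v ∈ Fx ρ g ↔ ρ g v = v := Iff.rfl

theorem apply_mul (a b : G) (v : V) : ρ (a * b) v = ρ a (ρ b v) := by rw [map_mul]; rfl

/-- Equal orbit sizes give equal stabiliser orders. -/
theorem card_St_eq
    (hhalf : ∀ v w : V, v ≠ 0 → w ≠ 0 →
      Nat.card {u : V | ∃ g : G, ρ g v = u} = Nat.card {u : V | ∃ g : G, ρ g w = u})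
    {v w : V} (hv : v ≠ 0) (hw : w ≠ 0) : Nat.card (St ρ v) = Nat.card (St ρ w) := by
  letI : MulAction G V :=
    { smul := fun g v => ρ g v
      one_smul := fun v => show ρ 1 v = v by rw [map_one]; rfl
      mul_smul := fun a b v => apply_mul ρ a b v }
  have key : ∀ u : V, Nat.card {x : V | ∃ g : G, ρ g u = x} * Nat.card (St ρ u) = Nat.card G := by
    intro u
    have h1 : St ρ u = MulAction.stabilizer G u := by ext; rfl
    have h2 : {x : V | ∃ g : G, ρ g u = x} = MulAction.orbit G u := rfl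
    rw [h1, h2, Nat.card_coe_set_eq, ← MulAction.index_stabilizer, Subgroup.index_mul_card]
  have h := (key v).trans (key w).symm
  rw [hhalf v w hv hw] at h
  refine Nat.eq_of_mul_eq_mul_left (Nat.pos_of_ne_zero fun h0 => ?_) h
  have hk := key w
  rw [h0, zero_mul] at hk
  exact Nat.card_pos.ne hk

/-- A regular linear `p`-group is cyclic or generalized quaternion. -/
theorem regular_case {p : ℕ} [Fact p.Prime] (hG : IsPGroup p G) (hρ : Function.Injective ρ)
    (hreg : ∀ v : V, v ≠ 0 → ∀ g : G, ρ g v = v → g = 1) :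
    IsCyclic G ∨ ∃ n : ℕ, Nonempty (G ≃* QuaternionGroup n) := by
  by_cases hp2 : p = 2
  · subst hp2
    rcases CfsgLib.ZStar.cyclic_or_quaternion hG
      (fun x y hx hy => CfsgLib.TransLinear.involution_unique hρ hreg hx hy) with h | ⟨n, h⟩
    · exact Or.inl h
    · exact Or.inr ⟨_, h⟩
  · left
    haveI := CfsgLib.TransLinear.isCyclic_of_odd hreg hp2 (hG.to_subgroup (⊤ : Subgroup G))
    exact isCyclic_of_surjective Subgroup.topEquiv.toMonoidHom Subgroup.topEquiv.surjective

/-- A `p`-group in characteristic `p` fixes a nonzero vector. -/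
theorem ne_char {p : ℕ} [hp : Fact p.Prime] (hG : IsPGroup p G) (hρ : Function.Injective ρ)
    (hst : ∀ v w : V, v ≠ 0 → w ≠ 0 → Nat.card (St ρ v) = Nat.card (St ρ w))
    (hne : ∀ v : V, v ≠ 0 → St ρ v ≠ ⊥) : p ≠ q := by
  rintro rfl
  letI : MulAction G V :=
    { smul := fun g v => ρ g v
      one_smul := fun v => show ρ 1 v = v by rw [map_one]; rfl
      mul_smul := fun a b v => apply_mul ρ a b v }
  have hdvd : p ∣ Nat.card V := by
    rw [Module.natCard_eq_pow_finrank (K := ZMod p) (V := V), Nat.card_zmod]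
    exact dvd_pow_self p Module.finrank_pos.ne'
  obtain ⟨v, hv, hv0⟩ := hG.exists_fixed_point_of_prime_dvd_card_of_fixed_point V hdvd
    (a := (0 : V)) (fun g => map_zero (ρ g))
  have htop : St ρ v = ⊤ := eq_top_iff.mpr fun g _ => hv g
  have hall : ∀ g : G, g = 1 := fun g => hρ (LinearEquiv.ext fun w => by
    rw [map_one]
    by_cases hw : w = 0
    · rw [hw, map_zero]; rfl
    have h : St ρ w = ⊤ := Subgroup.eq_top_of_card_eq _
      (by rw [hst w v hw hv0.symm, htop, Subgroup.card_top])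
    exact (h ▸ Subgroup.mem_top g : g ∈ St ρ w))
  exact hne v hv0.symm ((Subgroup.eq_bot_iff_forall _).mpr fun g _ => hall g)

/-- An element of a non-regular half-transitive group cannot fix a whole invariant summand. -/
theorem irreducible_of_nonregular {p : ℕ} [hp : Fact p.Prime] (hG : IsPGroup p G)
    (hρ : Function.Injective ρ)
    (hst : ∀ v w : V, v ≠ 0 → w ≠ 0 → Nat.card (St ρ v) = Nat.card (St ρ w))
    (hne : ∀ v : V, v ≠ 0 → St ρ v ≠ ⊥) (W : Submodule (ZMod q) V)
    (hW : ∀ g : G, ∀ w ∈ W, ρ g w ∈ W) : W = ⊥ ∨ W = ⊤ := by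
  classical
  haveI := Fintype.ofFinite G
  have hpq := ne_char ρ hG hρ hst hne
  have hcard : (Nat.card G : ZMod q) ≠ 0 := by
    obtain ⟨n, hn⟩ := IsPGroup.iff_card.mp hG
    rw [hn, Ne, ZMod.natCast_eq_zero_iff]
    exact fun h => hpq ((Nat.prime_dvd_prime_iff_eq hq.out hp.out).mp (hq.out.dvd_of_dvd_pow h)).symm
  by_contra hcon
  push Not at hcon
  obtain ⟨hbot, htop⟩ := hcon
  obtain ⟨π, hπ⟩ := Submodule.exists_isCompl W
  obtain ⟨P, hPmem, hPid⟩ : ∃ P : V →ₗ[ZMod q] V, (∀ v, P v ∈ W) ∧ ∀ w ∈ W, P w = w :=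
    ⟨W.subtype.comp (Submodule.linearProjOfIsCompl W π hπ), fun v => Submodule.coe_mem _,
      fun w hw => congrArg Subtype.val (Submodule.linearProjOfIsCompl_apply_left hπ ⟨w, hw⟩)⟩
  -- the averaged projection
  let T : V → V := fun v => (Nat.card G : ZMod q)⁻¹ • ∑ g : G, ρ g (P (ρ g⁻¹ v))
  have hTmem : ∀ v, T v ∈ W := fun v => W.smul_mem _ (W.sum_mem fun g _ => hW g _ (hPmem _))
  have hTid : ∀ w ∈ W, T w = w := by
    intro w hw
    have : ∀ g : G, ρ g (P (ρ g⁻¹ w)) = w := fun g => by
      rw [hPid _ (hW _ w hw), ← apply_mul, mul_inv_cancel, map_one]; rfl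
    simp only [T, this, Finset.sum_const, Finset.card_univ, ← Nat.card_eq_fintype_card]
    rw [← Nat.cast_smul_eq_nsmul (ZMod q), inv_smul_smul₀ hcard]
  have hTadd : ∀ a b, T (a + b) = T a + T b := fun a b => by
    simp only [T, map_add, Finset.sum_add_distrib, smul_add]
  have hTsub : ∀ a b, T (a - b) = T a - T b := fun a b => by
    simp only [T, map_sub, Finset.sum_sub_distrib, smul_sub]
  have hTcomm : ∀ h v, T (ρ h v) = ρ h (T v) := by
    intro h v
    simp only [T, map_smul, map_sum]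
    congr 1
    refine Fintype.sum_equiv (Equiv.mulLeft h⁻¹) _ _ fun g => ?_
    simp only [Equiv.coe_mulLeft, ← apply_mul, mul_inv_rev, inv_inv, mul_inv_cancel_left]
  -- a vector of `W` and a vector of the kernel
  obtain ⟨w, hw, hw0⟩ := Submodule.exists_mem_ne_zero_of_ne_bot hbot
  obtain ⟨v, hv⟩ : ∃ v, v ∉ W := by
    by_contra h
    push Not at h
    exact htop (eq_top_iff.mpr fun x _ => h x)
  have key : ∀ w ∈ W, w ≠ 0 → ∀ c, T c = 0 → c ≠ 0 → St ρ w = St ρ c := by
    intro w hw hw0 c hc hc0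
    have hwc : w + c ≠ 0 := fun h => hw0 (by
      have h1 := hTadd w c
      rw [h, hTid w hw, hc, add_zero] at h1
      rw [← h1]
      have h0 := hTsub 0 0
      rwa [sub_self, sub_self] at h0)
    have hle : St ρ (w + c) ≤ St ρ w ⊓ St ρ c := by
      intro g hg
      rw [mem_St, map_add] at hg
      have h1 := congrArg T hg
      rw [hTadd, hTadd, hTcomm g c, hc, map_zero, hTid _ (hW g w hw), hTid w hw, add_zero,
        add_zero] at h1
      refine ⟨h1, show ρ g c = c from ?_⟩
      rw [h1] at hg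
      exact add_left_cancel hg
    have h1 : St ρ (w + c) = St ρ w :=
      Subgroup.eq_of_le_of_card_ge (hle.trans inf_le_left) (hst w _ hw0 hwc).le
    have h2 : St ρ (w + c) = St ρ c :=
      Subgroup.eq_of_le_of_card_ge (hle.trans inf_le_right) (hst c _ hc0 hwc).le
    exact h1.symm.trans h2
  have hc : T (v - T v) = 0 := by rw [hTsub, hTid _ (hTmem v), sub_self]
  have hc0 : v - T v ≠ 0 := fun h => hv (by rw [sub_eq_zero.mp h]; exact hTmem v)
  refine hne w hw0 ((Subgroup.eq_bot_iff_forall _).mpr fun g hg => hρ (LinearEquiv.ext fun x => ?_))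
  rw [map_one]
  show ρ g x = x
  have e1 : ρ g (T x) = T x := by
    by_cases h : T x = 0
    · rw [h, map_zero]
    · exact (show g ∈ St ρ (T x) by
        rw [key _ (hTmem x) h _ hc hc0, ← key w hw hw0 _ hc hc0]; exact hg)
  have e2 : ρ g (x - T x) = x - T x := by
    by_cases h : x - T x = 0
    · rw [h, map_zero]
    · exact (show g ∈ St ρ (x - T x) by
        rw [← key w hw hw0 _ (by rw [hTsub, hTid _ (hTmem x), sub_self]) h]; exact hg)
  rw [map_sub, e1] at e2
  exact sub_left_inj.mp e2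

/-- A central element fixing a nonzero vector of an irreducible module is trivial. -/
theorem eq_one_of_central (hρ : Function.Injective ρ)
    (hirr : ∀ W : Submodule (ZMod q) V, (∀ g : G, ∀ w ∈ W, ρ g w ∈ W) → W = ⊥ ∨ W = ⊤)
    {x : G} (hx : ∀ g, g * x = x * g) {v : V} (hv : v ≠ 0) (hfix : ρ x v = v) : x = 1 := by
  rcases hirr (Fx ρ x) (fun g w hw => by
    rw [mem_Fx, ← apply_mul, ← hx g, apply_mul, (mem_Fx ρ).mp hw]) with h | h
  · exact absurd ((Submodule.eq_bot_iff _).mp h v hfix) hv
  · exact hρ (LinearEquiv.ext fun w => by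
      rw [map_one]; exact (mem_Fx ρ).mp (h ▸ Submodule.mem_top (x := w)))

/-- Involutions of a generalized quaternion group are central. -/
theorem quaternion_central {n : ℕ} [NeZero n] (x : QuaternionGroup n) (hx : x * x = 1)
    (g : QuaternionGroup n) : g * x = x * g := by
  rcases x with i | i
  · have h2 : i + i = 0 := by
      rw [QuaternionGroup.a_mul_a, QuaternionGroup.one_def] at hx
      exact QuaternionGroup.a.inj hx
    have hneg : -i = i := neg_eq_of_add_eq_zero_left h2
    rcases g with j | j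
    · simp only [QuaternionGroup.a_mul_a, add_comm]
    · simp only [QuaternionGroup.xa_mul_a, QuaternionGroup.a_mul_xa]
      rw [sub_eq_add_neg, hneg]
  · exfalso
    rw [QuaternionGroup.xa_mul_xa, add_sub_cancel_right, QuaternionGroup.one_def] at hx
    have h := QuaternionGroup.a.inj hx
    rw [ZMod.natCast_eq_zero_iff] at h
    have := Nat.le_of_dvd (Nat.pos_of_ne_zero (NeZero.ne n)) h
    have := Nat.pos_of_ne_zero (NeZero.ne n)
    omega

/-- `q^d + 1` is a power of two only for `d = 1`. -/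
theorem pow_add_one_two_pow {d k : ℕ} (hd : 0 < d) (hq2 : q ≠ 2) (h : q ^ d + 1 = 2 ^ k) :
    d = 1 := by
  have hqo : Odd q := hq.out.eq_two_or_odd'.resolve_left hq2
  have hq3 : 3 ≤ q := by have := hq.out.two_le; omega
  have hk : 2 ≤ k := by
    by_contra h'
    have : 2 ^ k ≤ 2 ^ 1 := Nat.pow_le_pow_right two_pos (by omega)
    have := Nat.le_self_pow hd.ne' q
    omega
  rcases Nat.even_or_odd d with ⟨b, hb⟩ | hdo
  · exfalso
    obtain ⟨c, hc⟩ := hqo.pow (n := b)
    have e : q ^ d + 1 = 4 * (c * c + c) + 2 := by rw [hb, pow_add, hc]; ring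
    obtain ⟨j, rfl⟩ := Nat.exists_eq_add_of_le hk
    rw [e, pow_add] at h
    omega
  · by_contra hd1
    set S : ℤ := ∑ i ∈ Finset.range d, (-(q : ℤ)) ^ i with hS
    have hgeom : S * ((q : ℤ) + 1) = 2 ^ k := by
      have h1 : S * (-(q : ℤ) - 1) = (-(q : ℤ)) ^ d - 1 := geom_sum_mul _ d
      rw [hdo.neg_pow] at h1
      have h2 : ((q : ℤ) ^ d + 1) = 2 ^ k := by exact_mod_cast h
      linarith [h1, h2]
    have hodd : Odd S := by
      rw [← ZMod.intCast_eq_one_iff_odd, hS]
      push_cast
      rw [show (q : ZMod 2) = 1 from ZMod.natCast_eq_one_iff_odd.mpr hqo]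
      simp [ZMod.natCast_eq_one_iff_odd.mpr hdo]
    have habs : S.natAbs * (q + 1) = 2 ^ k := by
      have := congrArg Int.natAbs hgeom
      rw [Int.natAbs_mul, Int.natAbs_pow] at this
      simpa [show ((q : ℤ) + 1).natAbs = q + 1 by omega] using this
    obtain ⟨e, -, he⟩ := (Nat.dvd_prime_pow Nat.prime_two).mp (Dvd.intro _ habs)
    have he0 : e = 0 := by
      by_contra h0
      have h' := Nat.odd_iff.mp (Int.natAbs_odd.mpr hodd)
      have := Nat.dvd_iff_mod_eq_zero.mp (dvd_pow_self 2 h0)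
      omega
    rw [he, he0, pow_zero, one_mul, ← h] at habs
    exact hd1 (Nat.pow_right_injective hq.out.two_le (by simp only [pow_one]; omega))

end CfsgLib.HalfTransP
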