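import Cfsg.Agent.Lib.HalfTransP.Main

/-!
The imprimitive half-transitive `p`-groups.
-/

set_option autoImplicit false
set_option linter.unusedSectionVars false
set_option linter.unusedSimpArgs false

namespace CfsgLib.HalfTransP

variable {q : ℕ} [hq : Fact q.Prime] {V : Type*} [AddCommGroup V] [Module (ZMod q) V] [Finite V]
  [Nontrivial V] {G : Type*} [Group G] [Finite G] (ρ : G →* (V ≃ₗ[ZMod q] V))

theorem perm_no_fixed {p : ℕ} (hp : p.Prime) {σ : Equiv.Perm (Fin p)} (hσ : orderOf σ = p)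
    (i : Fin p) : σ i ≠ i := by
  have hc : σ.IsCycle := Equiv.Perm.isCycle_of_prime_order' (hσ.symm ▸ hp)
    (by rw [Fintype.card_fin, hσ]; have := hp.pos; omega)
  have hs : σ.support = Finset.univ := Finset.eq_univ_of_card _
    (by rw [← hc.orderOf, hσ, Fintype.card_fin])
  exact Equiv.Perm.mem_support.mp (hs ▸ Finset.mem_univ i)

/-- Two summands: `H` fixing a summand pointwise forces the monomial group. -/
theorem monomial_case (hq2 : q ≠ 2) (hρ : Function.Injective ρ)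
    (hst : ∀ v w : V, v ≠ 0 → w ≠ 0 → Nat.card (St ρ v) = Nat.card (St ρ w))
    (hne : ∀ v : V, v ≠ 0 → St ρ v ≠ ⊥) (H : Subgroup G) (hidx : H.index = 2)
    {b0 b1 : V} (hb0 : b0 ≠ 0) (hb1 : b1 ≠ 0)
    (hcoord : Function.Bijective (fun f : Fin 2 → ZMod q => f 0 • b0 + f 1 • b1))
    (hH : ∀ h ∈ H, ∃ a b : ZMod q, a ≠ 0 ∧ b ≠ 0 ∧ ρ h b0 = a • b0 ∧ ρ h b1 = b • b1)
    (hout : ∀ g, g ∉ H → ∃ c d : ZMod q, c ≠ 0 ∧ d ≠ 0 ∧ ρ g b0 = c • b1 ∧ ρ g b1 = d • b0)
    (hswap : ∀ x : ZMod q, x ≠ 0 → ∃ g, g ∉ H ∧ ρ g (b0 + x • b1) = b0 + x • b1) :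
    ∃ e : V ≃ₗ[ZMod q] (Fin 2 → ZMod q), ∀ f : (Fin 2 → ZMod q) ≃ₗ[ZMod q] (Fin 2 → ZMod q),
        (∃ g : G, f = e.symm.trans ((ρ g).trans e)) ↔
        ∃ a s : ZMod q, a ≠ 0 ∧ (s = 1 ∨ s = -1) ∧
          ((∀ v, f v = ![a * v 0, s * a⁻¹ * v 1]) ∨ (∀ v, f v = ![s * a⁻¹ * v 1, a * v 0])) := by
  classical
  have huniq : ∀ a b c d : ZMod q, a • b0 + b • b1 = c • b0 + d • b1 → a = c ∧ b = d := by
    intro a b c d h
    have := hcoord.1 (a₁ := ![a, b]) (a₂ := ![c, d]) (by simpa using h)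
    exact ⟨congrFun this 0, congrFun this 1⟩
  have huniq0 : ∀ a c : ZMod q, a • b0 = c • b0 → a = c := fun a c h =>
    smul_left_injective (ZMod q) hb0 h
  have huniq1 : ∀ a c : ZMod q, a • b1 = c • b1 → a = c := fun a c h =>
    smul_left_injective (ZMod q) hb1 h
  have hext : ∀ g : G, ρ g b0 = b0 → ρ g b1 = b1 → g = 1 := fun g h0 h1 =>
    hρ (LinearEquiv.ext fun v => by
      obtain ⟨f, rfl⟩ := hcoord.2 v
      rw [map_one]
      show ρ g (f 0 • b0 + f 1 • b1) = f 0 • b0 + f 1 • b1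
      rw [map_add, map_smul, map_smul, h0, h1])
  -- the swapping elements
  have hsw : ∀ x : ZMod q, x ≠ 0 → ∃ g, g ∉ H ∧ ρ g b0 = x • b1 ∧ ρ g b1 = x⁻¹ • b0 := by
    intro x hx
    obtain ⟨g, hg, hfix⟩ := hswap x hx
    obtain ⟨c, d, -, -, h0, h1⟩ := hout g hg
    rw [map_add, map_smul, h0, h1, smul_smul, add_comm] at hfix
    obtain ⟨e1, e2⟩ := huniq (x * d) c 1 x (by rw [one_smul]; exact hfix)
    refine ⟨g, hg, by rw [h0, e2], ?_⟩
    rw [h1, show d = x⁻¹ from eq_inv_of_mul_eq_one_right e1]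
  -- the stabiliser of `b0`
  have hk2 : Nat.card (St ρ b0) ≤ 2 := by
    have hv : b0 + b1 ≠ 0 := fun h => one_ne_zero
      (huniq 1 1 0 0 (by rw [one_smul, one_smul, zero_smul, zero_smul, add_zero]; exact h)).1
    rw [hst b0 _ hb0 hv]
    have h1 : ∀ g ∈ St ρ (b0 + b1), g ∈ H → g = 1 := by
      intro g hg hgH
      obtain ⟨a, b, -, -, h0, h1⟩ := hH g hgH
      rw [mem_St, map_add, h0, h1] at hg
      obtain ⟨rfl, rfl⟩ := huniq a b 1 1 (by rwa [one_smul, one_smul])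
      exact hext g (by rw [h0, one_smul]) (by rw [h1, one_smul])
    have hr : (H.subgroupOf (St ρ (b0 + b1))) = ⊥ := by
      rw [Subgroup.eq_bot_iff_forall]
      exact fun g hg => Subtype.ext (h1 g g.2 hg)
    have h2 : H.relIndex (St ρ (b0 + b1)) ≤ 2 := by
      haveI := Subgroup.normal_of_index_eq_two hidx
      have := Subgroup.relIndex_dvd_index_of_normal H (St ρ (b0 + b1))
      rw [hidx] at this
      exact Nat.le_of_dvd two_pos this
    rw [Subgroup.relIndex, hr, Subgroup.index_bot] at h2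
    exact h2
  obtain ⟨⟨h0, hh0⟩, hh01⟩ := (St ρ b0).ne_bot_iff_exists_ne_one.mp (hne b0 hb0)
  have hh01' : h0 ≠ 1 := fun h => hh01 (Subtype.ext h)
  have hSt : ∀ g ∈ St ρ b0, g = 1 ∨ g = h0 := by
    intro g hg
    by_contra hcon
    push Not at hcon
    have : ({1, h0, g} : Set G).ncard = 3 := Set.ncard_eq_three.mpr
      ⟨1, h0, g, hh01'.symm, hcon.1.symm, hcon.2.symm, rfl⟩
    have h2 := Set.ncard_le_ncard (s := ({1, h0, g} : Set G)) (t := (St ρ b0 : Set G))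
      (by rintro x (rfl | rfl | rfl) <;> first | exact one_mem _ | assumption) (Set.toFinite _)
    rw [this, ← Nat.card_coe_set_eq] at h2
    change 3 ≤ Nat.card (St ρ b0) at h2
    omega
  have hh0H : h0 ∈ H := by
    by_contra h
    obtain ⟨c, d, -, -, e0, -⟩ := hout h0 h
    rw [mem_St, e0] at hh0
    exact one_ne_zero (huniq 1 0 0 c (by simp [hh0])).1
  have hh0neg : ρ h0 b1 = (-1 : ZMod q) • b1 := by
    obtain ⟨a, b, -, -, -, e1⟩ := hH h0 hh0H
    have hsq : b * b = 1 := by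
      rcases hSt (h0 * h0) (mul_mem hh0 hh0) with h | h
      · apply huniq1
        rw [one_smul, ← smul_smul, ← e1, ← map_smul, ← e1, ← apply_mul, h, map_one]
        rfl
      · exact absurd (mul_eq_left.mp h) hh01'
    rcases mul_self_eq_one_iff.mp hsq with h | h
    · exact absurd (hext h0 hh0 (by rw [e1, h, one_smul])) hh01'
    · rw [e1, h]
  -- elements of each kind
  have hdiag : ∀ a : ZMod q, a ≠ 0 → ∀ s : ZMod q, (s = 1 ∨ s = -1) →
      ∃ g, ρ g b0 = a • b0 ∧ ρ g b1 = (s * a⁻¹) • b1 := by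
    intro a ha s hs
    obtain ⟨g, -, g0, g1⟩ := hsw a⁻¹ (inv_ne_zero ha)
    obtain ⟨u, -, u0, u1⟩ := hsw 1 one_ne_zero
    rw [one_smul] at u0
    rw [inv_one, one_smul] at u1
    rw [inv_inv] at g1
    rcases hs with rfl | rfl
    · exact ⟨g * u, by rw [apply_mul, u0, g1], by rw [apply_mul, u1, g0, one_mul]⟩
    · refine ⟨g * u * h0, by rw [apply_mul, hh0, apply_mul, u0, g1], ?_⟩
      rw [apply_mul, hh0neg, map_smul, apply_mul, u1, g0, smul_smul]
  have hanti : ∀ a : ZMod q, a ≠ 0 → ∀ s : ZMod q, (s = 1 ∨ s = -1) →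
      ∃ g, ρ g b0 = a • b1 ∧ ρ g b1 = (s * a⁻¹) • b0 := by
    intro a ha s hs
    rcases hs with rfl | rfl
    · obtain ⟨g, -, g0, g1⟩ := hsw a ha
      exact ⟨g, g0, by rw [g1, one_mul]⟩
    · obtain ⟨g, -, g0, g1⟩ := hsw (-a) (neg_ne_zero.mpr ha)
      refine ⟨h0 * g, ?_, ?_⟩
      · rw [apply_mul, g0, map_smul, hh0neg, smul_smul, neg_mul_neg, mul_one]
      · rw [apply_mul, g1, map_smul, hh0, inv_neg, neg_one_mul]
  have hprodH : ∀ h ∈ H, ∀ a b : ZMod q, a ≠ 0 → ρ h b0 = a • b0 → ρ h b1 = b • b1 →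
      b * a = 1 ∨ b * a = -1 := by
    intro h _ a b ha e0 e1
    obtain ⟨g, g0, g1⟩ := hdiag a⁻¹ (inv_ne_zero ha) 1 (Or.inl rfl)
    rw [one_mul, inv_inv] at g1
    have k0 : ρ (h * g) b0 = b0 := by
      rw [apply_mul, g0, map_smul, e0, smul_smul, inv_mul_cancel₀ ha, one_smul]
    have k1 : ρ (h * g) b1 = (b * a) • b1 := by
      rw [apply_mul, g1, map_smul, e1, smul_smul, mul_comm]
    rcases hSt (h * g) k0 with k | k
    · left
      apply huniq1
      rw [← k1, k, map_one, one_smul]; rfl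
    · right
      apply huniq1
      rw [← k1, k, hh0neg]
  have hprodout : ∀ g, g ∉ H → ∀ c d : ZMod q, d ≠ 0 → ρ g b0 = c • b1 → ρ g b1 = d • b0 →
      c * d = 1 ∨ c * d = -1 := by
    intro g hg c d hd e0 e1
    obtain ⟨u, hu, u0, u1⟩ := hsw 1 one_ne_zero
    rw [one_smul] at u0
    rw [inv_one, one_smul] at u1
    exact hprodH (g * u) ((Subgroup.mul_mem_iff_of_index_two hidx).mpr
      ⟨fun e => absurd e hg, fun e => absurd e hu⟩) d c hd
      (by rw [apply_mul, u0, e1]) (by rw [apply_mul, u1, e0])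
  -- coordinates
  let L : (Fin 2 → ZMod q) →ₗ[ZMod q] V :=
    { toFun := fun f => f 0 • b0 + f 1 • b1
      map_add' := fun f f' => by simp only [Pi.add_apply, add_smul]; abel
      map_smul' := fun c f => by simp [smul_add, smul_smul] }
  let e := (LinearEquiv.ofBijective L hcoord).symm
  have hesymm : ∀ f, e.symm f = f 0 • b0 + f 1 • b1 := fun f => rfl
  have hexpr : ∀ (g : G) (c0 c1 : Fin 2 → ZMod q), ρ g b0 = e.symm c0 → ρ g b1 = e.symm c1 →
      ∀ v, (e.symm.trans ((ρ g).trans e)) v = v 0 • c0 + v 1 • c1 := by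
    intro g c0 c1 h0 h1 v
    rw [LinearEquiv.trans_apply, LinearEquiv.trans_apply, hesymm, map_add, map_smul, map_smul,
      h0, h1, ← map_smul, ← map_smul, ← map_add, LinearEquiv.apply_symm_apply]
  have hd0 : ∀ a : ZMod q, a • b0 = e.symm ![a, 0] := fun a => by simp [hesymm]
  have hd1 : ∀ a : ZMod q, a • b1 = e.symm ![0, a] := fun a => by simp [hesymm]
  refine ⟨e, fun f => ⟨?_, ?_⟩⟩
  · rintro ⟨g, rfl⟩
    by_cases hg : g ∈ H
    · obtain ⟨a, b, ha, hb, e0, e1⟩ := hH g hg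
      refine ⟨a, b * a, ha, hprodH g hg a b ha e0 e1, Or.inl fun v => ?_⟩
      rw [hexpr g _ _ (e0.trans (hd0 a)) (e1.trans (hd1 b)) v, mul_inv_cancel_right₀ ha]
      ext i; fin_cases i <;> simp [mul_comm]
    · obtain ⟨c, d, hc, hd, e0, e1⟩ := hout g hg
      refine ⟨c, c * d, hc, hprodout g hg c d hd e0 e1, Or.inr fun v => ?_⟩
      rw [hexpr g _ _ (e0.trans (hd1 c)) (e1.trans (hd0 d)) v,
        show c * d * c⁻¹ = d by field_simp]
      ext i; fin_cases i <;> simp [mul_comm]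
  · rintro ⟨a, s, ha, hs, hf | hf⟩
    · obtain ⟨g, g0, g1⟩ := hdiag a ha s hs
      refine ⟨g, LinearEquiv.ext fun v => ?_⟩
      rw [hf, hexpr g _ _ (g0.trans (hd0 a)) (g1.trans (hd1 _)) v]
      ext i; fin_cases i <;> simp [mul_comm]
    · obtain ⟨g, g0, g1⟩ := hanti a ha s hs
      refine ⟨g, LinearEquiv.ext fun v => ?_⟩
      rw [hf, hexpr g _ _ (g0.trans (hd1 a)) (g1.trans (hd0 _)) v]
      ext i; fin_cases i <;> simp [mul_comm]

/-- The imprimitive case. -/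
theorem imprimitive_case {p : ℕ} [hp : Fact p.Prime] (hG : IsPGroup p G) (hρ : Function.Injective ρ)
    (hst : ∀ v w : V, v ≠ 0 → w ≠ 0 → Nat.card (St ρ v) = Nat.card (St ρ w))
    (hne : ∀ v : V, v ≠ 0 → St ρ v ≠ ⊥) (hpq : p ≠ q)
    (H : Subgroup G) (W : Fin p → Submodule (ZMod q) V) (hidx : H.index = p) (htop : iSup W = ⊤)
    (hind : iSupIndep W) (hinv : ∀ h ∈ H, ∀ i, ∀ w ∈ W i, ρ h w ∈ W i)
    (hker : ∀ i, ∃ h ∈ H, h ≠ 1 ∧ ∀ w ∈ W i, ρ h w = w)
    (hperm : ∀ g : G, g ∉ H → ∃ σ : Equiv.Perm (Fin p), orderOf σ = p ∧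
      ∀ i, (W i).map (ρ g : V →ₗ[ZMod q] V) = W (σ i)) :
    (Nat.card V = q ^ 2 ∧ (∃ m : ℕ, q = 2 ^ m + 1) ∧
      ∃ e : V ≃ₗ[ZMod q] (Fin 2 → ZMod q), ∀ f : (Fin 2 → ZMod q) ≃ₗ[ZMod q] (Fin 2 → ZMod q),
        (∃ g : G, f = e.symm.trans ((ρ g).trans e)) ↔
        ∃ a s : ZMod q, a ≠ 0 ∧ (s = 1 ∨ s = -1) ∧
          ((∀ v, f v = ![a * v 0, s * a⁻¹ * v 1]) ∨ (∀ v, f v = ![s * a⁻¹ * v 1, a * v 0]))) ∨
    (Nat.card V = 81 ∧ q = 3 ∧ p = 2) := by
  classical
  obtain ⟨g0, hg0⟩ : ∃ g, g ∉ H := by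
    by_contra h
    push Not at h
    rw [show H = ⊤ from eq_top_iff.mpr fun x _ => h x, Subgroup.index_top] at hidx
    exact hp.out.ne_one hidx.symm
  have hdisj : ∀ i j, i ≠ j → ∀ v, v ∈ W i → v ∈ W j → v = 0 := fun i j hij v hi hj =>
    (Submodule.disjoint_def.mp (hind.pairwiseDisjoint hij)) v hi hj
  have hmap : ∀ g, g ∉ H → ∀ i, ∃ j, j ≠ i ∧ ∀ v ∈ W i, ρ g v ∈ W j := by
    intro g hg i
    obtain ⟨σ, hσ, hσW⟩ := hperm g hg
    exact ⟨σ i, perm_no_fixed hp.out hσ i, fun v hv => hσW i ▸ ⟨v, hv, rfl⟩⟩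
  have hstH : ∀ i, ∀ v ∈ W i, v ≠ 0 → St ρ v ≤ H := by
    intro i v hv hv0 g hg
    by_contra hgH
    obtain ⟨j, hj, hjm⟩ := hmap g hgH i
    have := hjm v hv
    rw [(mem_St ρ).mp hg] at this
    exact hv0 (hdisj i j hj.symm v hv this)
  -- two nonzero summands
  obtain ⟨i0, v0, hv0W, hv00⟩ : ∃ i, ∃ v ∈ W i, v ≠ (0 : V) := by
    by_contra h
    push Not at h
    have : iSup W = ⊥ := by
      rw [iSup_eq_bot]
      exact fun i => (Submodule.eq_bot_iff _).mpr (h i)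
    exact bot_ne_top (this.symm.trans htop)
  by_cases hp3 : p ≠ 2
  · exfalso
    have hkey : ∀ i j, i ≠ j → ∀ v ∈ W i, v ≠ 0 → ∀ w ∈ W j, w ≠ 0 → St ρ v ≤ St ρ w := by
      intro i j hij v hv hv0 w hw hw0
      have hvw : v + w ≠ 0 := fun h => hv0 (hdisj i j hij v hv
        (by rw [eq_neg_of_add_eq_zero_left h]; exact neg_mem hw))
      have hle : St ρ (v + w) ≤ St ρ v ⊓ St ρ w := by
        intro g hg
        rw [mem_St, map_add] at hg
        have hgH : g ∈ H := by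
          by_contra hgH
          obtain ⟨σ, hσ, hσW⟩ := hperm g hgH
          have hgv : ρ g v ∈ W (σ i) := hσW i ▸ ⟨v, hv, rfl⟩
          have hgw : ρ g w ∈ W (σ j) := hσW j ▸ ⟨w, hw, rfl⟩
          have kk : ∀ k l : Fin p, k ≠ l → ∀ x ∈ W k, x ≠ 0 → ∀ y ∈ W l, ∀ a ∈ W (σ k),
              ∀ b ∈ W (σ l), a + b = x + y → σ l = k := by
            intro k l hkl x hx hx0 y hy a ha b hb hab
            by_contra hne'
            apply hx0
            refine Submodule.disjoint_def.mp (hind k) x hx ?_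
            rw [show x = a + b - y from eq_sub_of_add_eq hab.symm]
            exact sub_mem (add_mem
              (Submodule.mem_iSup_of_mem (σ k) (Submodule.mem_iSup_of_mem (perm_no_fixed hp.out hσ k) ha))
              (Submodule.mem_iSup_of_mem (σ l) (Submodule.mem_iSup_of_mem hne' hb)))
              (Submodule.mem_iSup_of_mem l (Submodule.mem_iSup_of_mem hkl.symm hy))
          have e1 := kk i j hij v hv hv0 w hw _ hgv _ hgw hg
          have e2 := kk j i hij.symm w hw hw0 v hv _ hgw _ hgv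
            (by rw [add_comm, hg, add_comm])
          have h2 : orderOf (σ ^ 2) = p := by
            rw [Nat.Coprime.orderOf_pow, hσ]
            rw [hσ]
            exact (Nat.coprime_primes hp.out Nat.prime_two).mpr hp3
          exact perm_no_fixed hp.out h2 i (by rw [pow_two, Equiv.Perm.mul_apply, e2, e1])
        have h1 : ρ g v - v = w - ρ g w := by linear_combination (norm := abel) hg
        have h0 : ρ g v - v = 0 := hdisj i j hij _ (sub_mem (hinv g hgH i v hv) hv)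
          (h1 ▸ sub_mem hw (hinv g hgH j w hw))
        rw [h0] at h1
        exact ⟨sub_eq_zero.mp h0, (sub_eq_zero.mp h1.symm).symm⟩
      have h := Subgroup.eq_of_le_of_card_ge (hle.trans inf_le_left) (hst v _ hv0 hvw).le
      exact h ▸ hle.trans inf_le_right
    obtain ⟨j0, hj0, hj0m⟩ := hmap g0 hg0 i0
    have hu : ρ g0 v0 ≠ 0 := fun h => hv00 ((ρ g0).injective (h.trans (map_zero _).symm))
    refine hne v0 hv00 ((Subgroup.eq_bot_iff_forall _).mpr fun g hg => hρ ?_)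
    have hfix : ∀ k, W k ≤ Fx ρ g := by
      intro k w hw
      by_cases hw0 : w = 0
      · rw [hw0]; exact zero_mem _
      by_cases hk : k = i0
      · subst hk
        exact hkey j0 k hj0 _ (hj0m v0 hv0W) hu w hw hw0
          (hkey k j0 hj0.symm v0 hv0W hv00 _ (hj0m v0 hv0W) hu hg)
      · exact hkey i0 k (Ne.symm hk) v0 hv0W hv00 w hw hw0 hg
    refine LinearEquiv.ext fun x => ?_
    rw [map_one]
    exact (iSup_le hfix) (htop ▸ Submodule.mem_top : x ∈ iSup W)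
  push Not at hp3
  subst hp3
  obtain ⟨j0, hj0, hj0m⟩ := hmap g0 hg0 i0
  have htwo : ∀ k : Fin 2, k = i0 ∨ k = j0 := by omega
  have hc : IsCompl (W i0) (W j0) := by
    refine ⟨hind.pairwiseDisjoint hj0.symm, codisjoint_iff.mpr (eq_top_iff.mpr (htop ▸ iSup_le fun k => ?_))⟩
    rcases htwo k with rfl | rfl
    · exact le_sup_left
    · exact le_sup_right
  have hswapmem : ∀ g, g ∉ H → ∀ v, (v ∈ W i0 → ρ g v ∈ W j0) ∧ (v ∈ W j0 → ρ g v ∈ W i0) := by
    intro g hg v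
    constructor
    · intro hv
      obtain ⟨k, hk, hkm⟩ := hmap g hg i0
      rcases htwo k with rfl | rfl
      · exact absurd rfl hk
      · exact hkm v hv
    · intro hv
      obtain ⟨k, hk, hkm⟩ := hmap g hg j0
      rcases htwo k with rfl | rfl
      · exact hkm v hv
      · exact absurd rfl hk
  obtain ⟨h0, hh0H, hh01, hh0fix⟩ := hker i0
  obtain ⟨u1, hu1W, hu1⟩ : ∃ u ∈ W j0, ρ h0 u ≠ u := by
    by_contra h
    push Not at h
    refine hh01 (hρ (LinearEquiv.ext fun x => ?_))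
    rw [map_one]
    have hle : iSup W ≤ Fx ρ h0 := iSup_le fun k => by
      rcases htwo k with rfl | rfl
      · exact hh0fix
      · exact h
    exact hle (htop ▸ Submodule.mem_top)
  have hu10 : u1 ≠ 0 := fun h => hu1 (by rw [h, map_zero])
  have hkey : ∀ v ∈ W i0, v ≠ 0 → ∀ u ∈ W j0, ρ h0 u ≠ u →
      ∃ g, g ∉ H ∧ ρ g v = u ∧ ρ g u = v := by
    intro v hv hv0 u hu hu'
    have hu0 : u ≠ 0 := fun h => hu' (by rw [h, map_zero])
    have hvu : v + u ≠ 0 := fun h => hv0 (hdisj i0 j0 hj0.symm v hv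
      (by rw [eq_neg_of_add_eq_zero_left h]; exact neg_mem hu))
    obtain ⟨g, hg, hgH⟩ : ∃ g ∈ St ρ (v + u), g ∉ H := by
      by_contra h
      push Not at h
      have hle : St ρ (v + u) ≤ St ρ v ⊓ St ρ u := by
        intro g hg
        have hgH := h g hg
        rw [mem_St, map_add] at hg
        have h1 : ρ g v - v = u - ρ g u := by linear_combination (norm := abel) hg
        have h2 : ρ g v - v = 0 := hdisj i0 j0 hj0.symm _ (sub_mem (hinv g hgH i0 v hv) hv)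
          (h1 ▸ sub_mem hu (hinv g hgH j0 u hu))
        rw [h2] at h1
        exact ⟨sub_eq_zero.mp h2, (sub_eq_zero.mp h1.symm).symm⟩
      have he := Subgroup.eq_of_le_of_card_ge (hle.trans inf_le_left) (hst v _ hv0 hvu).le
      exact hu' ((hle.trans inf_le_right) (he ▸ (hh0fix v hv : h0 ∈ St ρ v)))
    rw [mem_St, map_add] at hg
    have h1 : ρ g v - u = v - ρ g u := by linear_combination (norm := abel) hg
    have h2 : ρ g v - u = 0 := hdisj j0 i0 hj0 _ (sub_mem ((hswapmem g hgH v).1 hv) hu)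
      (h1 ▸ sub_mem hv ((hswapmem g hgH u).2 hu))
    rw [h2] at h1
    exact ⟨g, hgH, sub_eq_zero.mp h2, (sub_eq_zero.mp h1.symm).symm⟩
  -- transitivity
  have htrans : ∀ v ∈ W i0, v ≠ 0 → ∃ h ∈ H, ρ h v0 = v := by
    intro v hv hv0
    obtain ⟨g, hg, -, e2⟩ := hkey v hv hv0 u1 hu1W hu1
    obtain ⟨g', hg', e1', -⟩ := hkey v0 hv0W hv00 u1 hu1W hu1
    exact ⟨g * g', (Subgroup.mul_mem_iff_of_index_two hidx).mpr
      ⟨fun e => absurd e hg, fun e => absurd e hg'⟩, by rw [apply_mul, e1', e2]⟩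
  set Q := Nat.card (W i0) with hQ
  obtain ⟨r, hr⟩ : ∃ r, Q = q ^ r :=
    ⟨_, by rw [hQ, Module.natCard_eq_pow_finrank (K := ZMod q), Nat.card_zmod]⟩
  obtain ⟨n, hn⟩ : ∃ n, Q - 1 = 2 ^ n := by
    letI : MulAction H V :=
      { smul := fun g v => ρ (g : G) v
        one_smul := fun v => show ρ ((1 : H) : G) v = v by rw [OneMemClass.coe_one, map_one]; rfl
        mul_smul := fun a b v => by
          show ρ ((a * b : H) : G) v = ρ (a : G) (ρ (b : G) v)
          rw [Subgroup.coe_mul, apply_mul] }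
    have horb : MulAction.orbit H v0 = (W i0 : Set V) \ {0} := by
      ext v
      constructor
      · rintro ⟨h, rfl⟩
        exact ⟨hinv h h.2 i0 v0 hv0W,
          fun e => hv00 ((ρ (h : G)).injective (show ρ (h : G) v0 = ρ (h : G) 0 by rw [map_zero]; exact e))⟩
      · rintro ⟨hv, hv0'⟩
        obtain ⟨h, hh, e⟩ := htrans v hv hv0'
        exact ⟨⟨h, hh⟩, e⟩
    have h1 := MulAction.index_stabilizer H v0
    rw [horb, Set.ncard_diff_singleton_of_mem (zero_mem (W i0)), ← Nat.card_coe_set_eq] at h1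
    obtain ⟨k, hk⟩ := IsPGroup.iff_card.mp (hG.to_subgroup H)
    obtain ⟨n, -, hn⟩ := (Nat.dvd_prime_pow Nat.prime_two).mp
      (hk ▸ Subgroup.index_dvd_card (MulAction.stabilizer H v0))
    exact ⟨n, h1.symm.trans hn⟩
  have hQ1 : 1 < Q := by
    rw [hQ]
    exact Finite.one_lt_card_iff_nontrivial.mpr ⟨⟨⟨v0, hv0W⟩, 0, fun e => hv00 (congrArg Subtype.val e)⟩⟩
  have hr0 : 0 < r := Nat.pos_of_ne_zero fun h => by rw [h, pow_zero] at hr; omega
  have hQV : Nat.card V = Q * Q := by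
    have hc1 : Nat.card (W j0) = Q := by
      refine le_antisymm ?_ ?_
      · exact Nat.card_le_card_of_injective (fun v : W j0 => (⟨ρ g0 v, (hswapmem g0 hg0 v).2 v.2⟩ : W i0))
          fun a b h => Subtype.ext ((ρ g0).injective (congrArg Subtype.val h))
      · exact Nat.card_le_card_of_injective (fun v : W i0 => (⟨ρ g0 v, (hswapmem g0 hg0 v).1 v.2⟩ : W j0))
          fun a b h => Subtype.ext ((ρ g0).injective (congrArg Subtype.val h))
    rw [← Nat.card_congr (Submodule.prodEquivOfIsCompl _ _ hc).toEquiv, Nat.card_prod, hc1]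
  rcases Cfsg.Agent.S3370.two_pow_add_one hq.out (a := n) (show q ^ r = 2 ^ n + 1 by omega) hr0
    (Ne.symm hpq) with hr1 | ⟨hq3, hr2⟩
  swap
  · right
    exact ⟨by rw [hQV, hr, hq3, hr2]; norm_num, hq3, rfl⟩
  left
  rw [hr1, pow_one] at hr
  refine ⟨by rw [hQV, hr, pow_two], ⟨n, by omega⟩, ?_⟩
  -- one-dimensional summands
  have hline : ∀ (k : Fin 2) (b : V), Nat.card (W k) = q → b ∈ W k → b ≠ 0 → ∀ w ∈ W k,
      ∃ c : ZMod q, c • b = w := by
    intro k b hk hb hb0 w hw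
    have hf : Function.Injective (fun c : ZMod q => (⟨c • b, (W k).smul_mem c hb⟩ : W k)) :=
      fun a c h => smul_left_injective (ZMod q) hb0 (congrArg Subtype.val h)
    obtain ⟨c, hc⟩ := ((Nat.bijective_iff_injective_and_card _).mpr
      ⟨hf, by rw [Nat.card_zmod, hk]⟩).2 ⟨w, hw⟩
    exact ⟨c, congrArg Subtype.val hc⟩
  have hcj : Nat.card (W j0) = q := by
    have h := Nat.card_congr (Submodule.prodEquivOfIsCompl _ _ hc).toEquiv
    rw [Nat.card_prod, hQV, ← hQ, hr] at h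
    exact Nat.eq_of_mul_eq_mul_left hq.out.pos h
  have hl0 := hline i0 v0 (hQ ▸ hr) hv0W hv00
  have hl1 := hline j0 u1 hcj hu1W hu10
  have hu1x : ∀ x : ZMod q, x ≠ 0 → ρ h0 (x • u1) ≠ x • u1 := fun x hx h => hu1 (by
    rw [map_smul] at h
    exact smul_right_injective V hx h)
  refine monomial_case ρ (Ne.symm hpq) hρ hst hne H hidx hv00 hu10 ?_ ?_ ?_ ?_
  · have : Nat.card (Fin 2 → ZMod q) = Nat.card V := by
      rw [Nat.card_fun, Nat.card_zmod, Nat.card_fin, hQV, hr, pow_two]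
    refine (Nat.bijective_iff_injective_and_card _).mpr ⟨fun f f' h => ?_, this⟩
    have h1 : (f 0 - f' 0) • v0 = (f' 1 - f 1) • u1 := by
      simp only at h
      rw [sub_smul, sub_smul]
      linear_combination (norm := abel) h
    have h0 := hdisj i0 j0 hj0.symm _ ((W i0).smul_mem _ hv0W) (h1 ▸ (W j0).smul_mem _ hu1W)
    rw [h0] at h1
    have e0 := sub_eq_zero.mp ((smul_eq_zero.mp h0).resolve_right hv00)
    have e1 := sub_eq_zero.mp ((smul_eq_zero.mp h1.symm).resolve_right hu10)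
    ext i; fin_cases i
    · exact e0
    · exact e1.symm
  · intro h hh
    obtain ⟨a, ha⟩ := hl0 _ (hinv h hh i0 v0 hv0W)
    obtain ⟨b, hb⟩ := hl1 _ (hinv h hh j0 u1 hu1W)
    exact ⟨a, b, fun e => hv00 ((ρ h).injective (by rw [← ha, e, zero_smul, map_zero])),
      fun e => hu10 ((ρ h).injective (by rw [← hb, e, zero_smul, map_zero])), ha.symm, hb.symm⟩
  · intro g hg
    obtain ⟨a, ha⟩ := hl1 _ ((hswapmem g hg v0).1 hv0W)
    obtain ⟨b, hb⟩ := hl0 _ ((hswapmem g hg u1).2 hu1W)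
    exact ⟨a, b, fun e => hv00 ((ρ g).injective (by rw [← ha, e, zero_smul, map_zero])),
      fun e => hu10 ((ρ g).injective (by rw [← hb, e, zero_smul, map_zero])), ha.symm, hb.symm⟩
  · intro x hx
    obtain ⟨g, hg, e1, e2⟩ := hkey v0 hv0W hv00 _ ((W j0).smul_mem x hu1W) (hu1x x hx)
    exact ⟨g, hg, by rw [map_add, e1, e2, add_comm]⟩

end CfsgLib.HalfTransP
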